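import Mathlib.AlgebraicGeometry.Modules.Sheaf
import Mathlib.AlgebraicGeometry.AffineScheme
import Mathlib.Topology.Sheaves.SheafCondition.Sites
import Mathlib.Topology.Sheaves.SheafCondition.UniqueGluing

/-!
# Morphisms of `O_X`-modules given on a basis of opens

A family of `Γ(X, U)`-linear maps `Γ(M, U) → Γ(N, U)`, `U` in a basis (e.g. the affine opens), compatible with
restriction, is the family of values of a unique morphism of `O_X`-modules.
-/

universe u

open AlgebraicGeometry CategoryTheory TopologicalSpace Opposite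

namespace GrothLib.AffHom

variable {X : Scheme.{u}} {M N : X.Modules}

section Basis

variable {ι : Type u} {B : ι → X.Opens}

/-- Two morphisms of modules agreeing on sections over a basis are equal. -/
theorem hom_ext_basis (hB : Opens.IsBasis (Set.range B)) {f g : M ⟶ N}
    (h : ∀ (i : ι) (m : Γ(M, B i)), f.app (B i) m = g.app (B i) m) : f = g := by
  apply (Scheme.Modules.toPresheaf X).map_injective
  refine TopCat.Sheaf.hom_ext M.presheaf ⟨N.presheaf, N.isSheaf⟩ hB fun i => ?_
  ext m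
  exact h i m

/-- A compatible family of linear maps on a basis comes from a morphism of modules. -/
theorem exists_hom_basis (hB : Opens.IsBasis (Set.range B))
    (ψ : ∀ i, Γ(M, B i) →ₗ[Γ(X, B i)] Γ(N, B i))
    (hres : ∀ (i j : ι) (h : B j ≤ B i) (m : Γ(M, B i)),
      N.presheaf.map (homOfLE h).op (ψ i m) = ψ j (M.presheaf.map (homOfLE h).op m)) :
    ∃ f : M ⟶ N, ∀ (i : ι) (m : Γ(M, B i)), f.app (B i) m = ψ i m := by
  let η : (inducedFunctor B).op ⋙ M.presheaf ⟶ (inducedFunctor B).op ⋙ N.presheaf :=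
    { app := fun i => AddCommGrpCat.ofHom (ψ i.unop).toAddMonoidHom
      naturality := fun i j φ => by
        ext m
        exact (hres i.unop j.unop (leOfHom φ.unop.hom) m).symm }
  let c : M.presheaf ⟶ N.presheaf :=
    TopCat.Sheaf.restrictHomEquivHom M.presheaf ⟨N.presheaf, N.isSheaf⟩ hB η
  have hc : ∀ (i : ι) (m : Γ(M, B i)), c.app (op (B i)) m = ψ i m := fun i m =>
    ConcreteCategory.congr_hom
      (TopCat.Sheaf.extend_hom_app M.presheaf ⟨N.presheaf, N.isSheaf⟩ hB η i) m
  have hnat : ∀ {V W : X.Opens} (h : W ≤ V) (m : Γ(M, V)),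
      N.presheaf.map (homOfLE h).op (c.app (op V) m) = c.app (op W) (M.presheaf.map (homOfLE h).op m) :=
    fun {V W} h m => (ConcreteCategory.congr_hom (c.naturality (homOfLE h).op) m).symm
  have hlin : ∀ (V : X.Opens) (r : Γ(X, V)) (m : Γ(M, V)), c.app (op V) (r • m) = r • c.app (op V) m := by
    intro V r m
    refine TopCat.Sheaf.eq_of_locally_eq' ⟨N.presheaf, N.isSheaf⟩
      (fun i : {i : ι // B i ≤ V} => B i.1) V (fun i => homOfLE i.2) ?_ _ _ fun i => ?_
    · intro x hx
      obtain ⟨_, ⟨i, rfl⟩, hxW, hWV⟩ := Opens.isBasis_iff_nbhd.mp hB hx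
      exact Opens.mem_iSup.mpr ⟨⟨i, hWV⟩, hxW⟩
    · show N.presheaf.map (homOfLE i.2).op _ = N.presheaf.map (homOfLE i.2).op _
      rw [Scheme.Modules.map_smul, hnat, hnat, Scheme.Modules.map_smul, hc, hc, map_smul]
  let φ : (Scheme.Modules.toPresheafOfModules X).obj M ⟶ (Scheme.Modules.toPresheafOfModules X).obj N :=
    PresheafOfModules.homMk c (fun V r m => hlin V.unop r m)
  refine ⟨Scheme.Modules.fullyFaithfulToPresheafOfModules.preimage φ, fun i m => ?_⟩
  have e := Scheme.Modules.fullyFaithfulToPresheafOfModules.map_preimage φ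
  exact (congrArg (fun χ : (Scheme.Modules.toPresheafOfModules X).obj M ⟶
    (Scheme.Modules.toPresheafOfModules X).obj N => χ.app (op (B i)) m) e).trans (hc i m)

/-- A compatible family of linear isomorphisms on a basis comes from an isomorphism of modules. -/
theorem exists_iso_basis (hB : Opens.IsBasis (Set.range B))
    (ψ : ∀ i, Γ(M, B i) ≃ₗ[Γ(X, B i)] Γ(N, B i))
    (hres : ∀ (i j : ι) (h : B j ≤ B i) (m : Γ(M, B i)),
      N.presheaf.map (homOfLE h).op (ψ i m) = ψ j (M.presheaf.map (homOfLE h).op m)) :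
    ∃ f : M ≅ N, ∀ (i : ι) (m : Γ(M, B i)), f.hom.app (B i) m = ψ i m := by
  obtain ⟨f, hf⟩ := exists_hom_basis hB (fun i => (ψ i).toLinearMap) hres
  obtain ⟨g, hg⟩ := exists_hom_basis hB (fun i => (ψ i).symm.toLinearMap) (fun i j h n => by
    refine (ψ j).injective ?_
    show ψ j _ = ψ j ((ψ j).symm _)
    rw [LinearEquiv.apply_symm_apply, ← hres i j h]
    exact congrArg _ ((ψ i).apply_symm_apply n))
  refine ⟨⟨f, g, hom_ext_basis hB fun i m => ?_, hom_ext_basis hB fun i m => ?_⟩, hf⟩
  · show g.app (B i) (f.app (B i) m) = m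
    rw [hf, hg]
    exact (ψ i).symm_apply_apply m
  · show f.app (B i) (g.app (B i) m) = m
    rw [hg, hf]
    exact (ψ i).apply_symm_apply m

end Basis

/-- The family of affine opens, as an indexed family. -/
abbrev affB (X : Scheme.{u}) (U : X.affineOpens) : X.Opens := U.1

theorem isBasis_affB (X : Scheme.{u}) : Opens.IsBasis (Set.range (affB X)) := by
  have : Set.range (affB X) = X.affineOpens := Subtype.range_val
  rw [this]
  exact X.isBasis_affineOpens

/-- Two morphisms of modules agreeing on sections over all affine opens are equal. -/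
theorem hom_ext {f g : M ⟶ N} (h : ∀ (U : X.affineOpens) (m : Γ(M, U.1)), f.app U.1 m = g.app U.1 m) :
    f = g :=
  hom_ext_basis (isBasis_affB X) h

/-- A compatible family of linear maps on affine opens comes from a morphism of modules. -/
theorem exists_hom (ψ : ∀ U : X.affineOpens, Γ(M, U.1) →ₗ[Γ(X, U.1)] Γ(N, U.1))
    (hres : ∀ (U V : X.affineOpens) (h : V.1 ≤ U.1) (m : Γ(M, U.1)),
      N.presheaf.map (homOfLE h).op (ψ U m) = ψ V (M.presheaf.map (homOfLE h).op m)) :
    ∃ f : M ⟶ N, ∀ (U : X.affineOpens) (m : Γ(M, U.1)), f.app U.1 m = ψ U m :=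
  exists_hom_basis (isBasis_affB X) ψ hres

/-- Existence and uniqueness. -/
theorem existsUnique_hom (ψ : ∀ U : X.affineOpens, Γ(M, U.1) →ₗ[Γ(X, U.1)] Γ(N, U.1))
    (hres : ∀ (U V : X.affineOpens) (h : V.1 ≤ U.1) (m : Γ(M, U.1)),
      N.presheaf.map (homOfLE h).op (ψ U m) = ψ V (M.presheaf.map (homOfLE h).op m)) :
    ∃! f : M ⟶ N, ∀ (U : X.affineOpens) (m : Γ(M, U.1)), f.app U.1 m = ψ U m := by
  obtain ⟨f, hf⟩ := exists_hom ψ hres
  exact ⟨f, hf, fun g hg => hom_ext fun U m => (hg U m).trans (hf U m).symm⟩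

/-- A compatible family of linear isomorphisms on affine opens comes from an isomorphism of modules. -/
theorem exists_iso (ψ : ∀ U : X.affineOpens, Γ(M, U.1) ≃ₗ[Γ(X, U.1)] Γ(N, U.1))
    (hres : ∀ (U V : X.affineOpens) (h : V.1 ≤ U.1) (m : Γ(M, U.1)),
      N.presheaf.map (homOfLE h).op (ψ U m) = ψ V (M.presheaf.map (homOfLE h).op m)) :
    ∃ f : M ≅ N, ∀ (U : X.affineOpens) (m : Γ(M, U.1)), f.hom.app U.1 m = ψ U m :=
  exists_iso_basis (isBasis_affB X) ψ hres

end GrothLib.AffHom
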